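import Groth.Prelude.Def_ArSurf
import Groth.Prelude.Def_Neron
import Groth.Agent.S15544
import Groth.Agent.L18.FactorDesc
import Groth.Agent.L16.Connected.AppIso
import Groth.Agent.L05.RelMinExists.Main

/-!
# Contractions of vertical curves are unique
-/

set_option autoImplicit false
set_option linter.style.haveILetI false
set_option backward.isDefEq.respectTransparency false

universe u

open CategoryTheory CategoryTheory.Limits AlgebraicGeometry TopologicalSpace Topology

noncomputable section

namespace Groth.L05.ContractUnique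

variable {R : Type u} [CommRing R] [IsDomain R] [IsDiscreteValuationRing R]
  {X : Over (Spec (CommRingCat.of R))} [IsIntegral X.left] [IsProper X.hom]
  {r : ℕ} (Γ : Fin r → ArSurf.VertComp R X)

/-- The union of the curves. -/
def union : Set X.left := ⋃ i, Set.range (Γ i).ι.base

/-- The conditions on a contraction of the curves. -/
structure IsContr (Y : Over (Spec (CommRingCat.of R))) (f : X ⟶ Y) : Prop where
  integral : IsIntegral Y.left
  normal : ∀ q : Y.left, IsIntegrallyClosed (Y.left.presheaf.stalk q)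
  dim : topologicalKrullDim Y.left = 2
  proper : IsProper Y.hom
  point : ∀ i, ∃ y : Y.left, Set.range (((Γ i).ι ≫ f.left).base : (Γ i).curve.left → Y.left) = {y}
  pre : f.left.base ⁻¹' (f.left.base '' union Γ) = union Γ
  iso : ∀ V : Y.left.Opens, (V : Set Y.left) ∩ f.left.base '' union Γ = ∅ → IsIso (f.left ∣_ V)

theorem existsUnique_factor {Y₁ Y₂ : Over (Spec (CommRingCat.of R))} (f₁ : X ⟶ Y₁) (f₂ : X ⟶ Y₂)
    (h₁ : IsContr Γ Y₁ f₁) (h₂ : IsContr Γ Y₂ f₂) : ∃! g : Y₁ ⟶ Y₂, f₁ ≫ g = f₂ := by
  classical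
  haveI := h₁.integral; haveI := h₁.proper; haveI := h₂.proper
  haveI : IsProper (f₁.left ≫ Y₁.hom) := by rw [Over.w f₁]; infer_instance
  haveI : IsProper f₁.left := IsProper.of_comp f₁.left Y₁.hom
  haveI : IsProper (f₂.left ≫ Y₂.hom) := by rw [Over.w f₂]; infer_instance
  haveI : IsProper f₂.left := IsProper.of_comp f₂.left Y₂.hom
  haveI : IsLocallyNoetherian Y₁.left := LocallyOfFiniteType.isLocallyNoetherian Y₁.hom
  choose y hy using h₁.point
  choose y' hy' using h₂.point
  have hyc : ∀ i, IsClosed ({y i} : Set Y₁.left) := fun i => by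
    rw [← hy i]
    exact ((Γ i).ι ≫ f₁.left).isClosedMap.isClosed_range
  have hyc' : ∀ i, IsClosed ({y' i} : Set Y₂.left) := fun i => by
    rw [← hy' i]
    exact ((Γ i).ι ≫ f₂.left).isClosedMap.isClosed_range
  have himg : f₁.left.base '' union Γ = ⋃ i, {y i} := by
    rw [union, Set.image_iUnion]
    exact Set.iUnion_congr fun i => by rw [← Set.range_comp, ← hy i]; rfl
  let V : Y₁.left.Opens := ⟨(⋃ i, {y i})ᶜ, (isClosed_iUnion_of_finite hyc).isOpen_compl⟩
  haveI := h₁.iso V (by rw [himg]; exact Set.compl_inter_self _)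
  have hgen : genericPoint Y₁.left ∈ V := by
    intro h
    obtain ⟨i, hi⟩ := Set.mem_iUnion.1 h
    haveI : Subsingleton Y₁.left := ⟨fun p q => by
      have hp : ∀ z : Y₁.left, z = y i := fun z =>
        ((Set.mem_singleton_iff.1 hi) ▸ genericPoint_specializes z).mem_closed (hyc i) rfl
      rw [hp p, hp q]⟩
    haveI : DiscreteTopology Y₁.left := Subsingleton.discreteTopology
    have h0 := topologicalKrullDim_zero_of_discreteTopology Y₁.left
    rw [h₁.dim] at h0
    exact absurd h0 (by norm_num)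
  obtain ⟨x₀, hx₀⟩ := (f₁.left ∣_ V).surjective ⟨genericPoint Y₁.left, hgen⟩
  have hfx : f₁.left x₀.1 = genericPoint Y₁.left := by rw [← morphismRestrict_base_coe, hx₀]
  have hξ : f₁.left (genericPoint X.left) = genericPoint Y₁.left :=
    (Specializes.antisymm (hfx ▸ (genericPoint_specializes x₀.1).map f₁.left.continuous) (genericPoint_specializes _)).eq
  have hmem : genericPoint X.left ∈ f₁.left ⁻¹ᵁ V := by
    show f₁.left (genericPoint X.left) ∈ V; rw [hξ]; exact hgen
  have hbir : IsIso (f₁.left.stalkMap (genericPoint X.left)) :=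
    ((MorphismProperty.isomorphisms CommRingCat).arrow_mk_iso_iff
      (morphismRestrictStalkMap f₁.left V ⟨_, hmem⟩)).1
      (inferInstance : IsIso ((f₁.left ∣_ V).stalkMap ⟨_, hmem⟩))
  have hff : Function.Bijective (Groth.L21.Curve.ffMap f₁.left hξ) := by
    haveI := hbir
    exact (ConcreteCategory.bijective_of_isIso (f₁.left.stalkMap (genericPoint X.left))).comp
      (ConcreteCategory.bijective_of_isIso (Y₁.left.presheaf.stalkCongr (.of_eq hξ)).inv)
  have hO := Groth.L16.Connected.isIso_app_of_birational f₁.left hξ h₁.normal hff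
  haveI : Surjective f₁.left := ⟨fun z => by
    have h := (genericPoint_specializes z).mem_closed f₁.left.isClosedMap.isClosed_range ⟨_, hξ⟩
    exact h⟩
  have hN : Pi1.IsNormalScheme Y₁.left := fun q => ⟨inferInstance, h₁.normal q⟩
  have hconst : ∀ a b : X.left, f₁.left a = f₁.left b → f₂.left a = f₂.left b := by
    intro a b hab
    by_cases haV : f₁.left a ∈ V
    · rw [Groth.L05.RelMinExists.eq_of_isIso_restrict' f₁.left V haV hab]
    · haveI := Groth.Agent.S15544.result hN f₁.left hξ hbir (f₁.left a)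
      let Z : Set X.left := f₁.left ⁻¹' {f₁.left a}
      have hZ : _root_.IsPreconnected Z := by
        show _root_.IsPreconnected (f₁.left ⁻¹' {f₁.left a})
        rw [← f₁.left.range_fiberι]
        exact isPreconnected_range (f₁.left.fiberι _).continuous
      let P : Set Y₂.left := ⋃ i, {y' i}
      have hP : ∀ z ∈ Z, f₂.left z ∈ P := by
        intro z hz
        have hzU : z ∈ union Γ := by
          rw [← h₁.pre]
          show f₁.left z ∈ f₁.left.base '' union Γ
          rw [himg, show f₁.left z = f₁.left a from hz]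
          exact not_not.1 haV
        obtain ⟨i, c, rfl⟩ := Set.mem_iUnion.1 hzU
        exact Set.mem_iUnion.2 ⟨i, hy' i ▸ Set.mem_range_self (f := ((Γ i).ι ≫ f₂.left).base) c⟩
      haveI : DiscreteTopology P := by
        haveI : T1Space P := ⟨fun p => by
          obtain ⟨i, hi⟩ := Set.mem_iUnion.1 p.2
          have : ({p} : Set P) = Subtype.val ⁻¹' {y' i} := by
            ext q
            constructor
            · rintro rfl; exact hi
            · intro hq; exact Subtype.ext (hq.trans (Set.mem_singleton_iff.1 hi).symm)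
          rw [this]
          exact (hyc' i).preimage continuous_subtype_val⟩
        haveI : Finite P := (Set.finite_iUnion fun i => Set.finite_singleton (y' i)).to_subtype
        exact Finite.instDiscreteTopology
      haveI : PreconnectedSpace Z := isPreconnected_iff_preconnectedSpace.1 hZ
      let φ : Z → P := fun z => ⟨f₂.left z.1, hP z.1 z.2⟩
      have hφ : Continuous φ := (f₂.left.continuous.comp continuous_subtype_val).subtype_mk _
      exact congrArg Subtype.val (PreconnectedSpace.constant inferInstance hφ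
        (x := (⟨a, rfl⟩ : Z)) (y := (⟨b, hab.symm⟩ : Z)))
  obtain ⟨g, hg, huniq⟩ := Groth.L18.FactorDesc.existsUnique_desc f₁.left f₁.left.isClosedMap
    (fun U => (ConcreteCategory.isIso_iff_bijective _).1 (hO U)) f₂.left hconst
  obtain ⟨u, hu, huY⟩ := Groth.L18.FactorDesc.existsUnique_desc f₁.left f₁.left.isClosedMap
    (fun U => (ConcreteCategory.isIso_iff_bijective _).1 (hO U)) X.hom
    (fun a b hab => by rw [← Over.w f₁, Scheme.Hom.comp_apply, Scheme.Hom.comp_apply, hab])
  refine ⟨Over.homMk g ((huY (g ≫ Y₂.hom) ?_).trans (huY Y₁.hom (Over.w f₁)).symm), Over.OverMorphism.ext hg,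
    fun g' hg' => Over.OverMorphism.ext (huniq g'.left (congrArg CommaMorphism.left hg'))⟩
  show f₁.left ≫ g ≫ Y₂.hom = X.hom
  rw [← Category.assoc, hg, Over.w f₂]

theorem existsUnique_iso {Y₁ Y₂ : Over (Spec (CommRingCat.of R))} (f₁ : X ⟶ Y₁) (f₂ : X ⟶ Y₂)
    (h₁ : IsContr Γ Y₁ f₁) (h₂ : IsContr Γ Y₂ f₂) :
    (∃! g : Y₁ ⟶ Y₂, f₁ ≫ g = f₂) ∧ ∀ g : Y₁ ⟶ Y₂, f₁ ≫ g = f₂ → IsIso g := by
  refine ⟨existsUnique_factor Γ f₁ f₂ h₁ h₂, fun g hg => ?_⟩
  obtain ⟨g', hg', -⟩ := existsUnique_factor Γ f₂ f₁ h₂ h₁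
  obtain ⟨_, _, hu₁⟩ := existsUnique_factor Γ f₁ f₁ h₁ h₁
  obtain ⟨_, _, hu₂⟩ := existsUnique_factor Γ f₂ f₂ h₂ h₂
  refine ⟨g', ?_, ?_⟩
  · rw [hu₁ (g ≫ g') (by show f₁ ≫ g ≫ g' = f₁; rw [← Category.assoc, hg, hg']), hu₁ (𝟙 _) (Category.comp_id _)]
  · rw [hu₂ (g' ≫ g) (by show f₂ ≫ g' ≫ g = f₂; rw [← Category.assoc, hg', hg]), hu₂ (𝟙 _) (Category.comp_id _)]

end Groth.L05.ContractUnique
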